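import Cfsg.Agent.H31.TwoCyc.MSelf
import Mathlib.GroupTheory.FixedPointFree

/-!
# A self-centralizing element of order 3 and a fixed-point-free involution (helper31)

* `false_of_inv` : `v` of order 3 with `C(v) = ⟨v⟩`, `X ≠ 1` normal of order prime to 3, `t` an involution without fixed points on
  `X`: contradiction
* `no_comm_of_inv` : `y` of prime order `r`, `v` of order 3 with `C(v) ∩ C(y) = ⟨v⟩⟨y⟩`, `t` an involution of `C(y)` commuting with
  no element of order `q` of `C(y)`: `C(y)` has no elements of order `q` (`q ≥ 11`).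
-/

set_option autoImplicit false

namespace Cfsg.Agent.H31.B0R

open Subgroup Cfsg Cfsg.Agent.H241.NH Cfsg.Agent.H241.Mon Cfsg.Agent.LThreeMB Cfsg.Agent.H31.TwoCyc.MSelf

universe u

section gen

variable {K : Type u} [Group K] [Finite K]

theorem false_of_inv {v t : K} (hv : orderOf v = 3) (hC : ∀ g : K, g * v = v * g → g ∈ zpowers v) (ht : t * t = 1)
    {X : Subgroup K} [hXn : X.Normal] (hX : X ≠ ⊥) (h3 : ¬ 3 ∣ Nat.card X) (hfix : ∀ x ∈ X, t * x = x * t → x = 1) :
    False := by
  have hp : Fact (Nat.Prime 3) := ⟨Nat.prime_three⟩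
  let φ : K →* MulAut X := MulAut.conjNormal
  have hφ : ∀ (k : K) (x : X), ((φ k x : X) : K) = k * x * k⁻¹ := fun k x => MulAut.conjNormal_apply k x
  have htt : φ t * φ t = 1 := by rw [← map_mul, ht, map_one]
  have hff : MonoidHom.FixedPointFree (φ t : X → X) := by
    intro x hx
    have h1 := hφ t x
    rw [hx] at h1
    exact Subtype.ext (hfix x x.2 (eq_mul_inv_iff_mul_eq.1 h1).symm)
  have h2 : Function.Involutive (φ t : X → X) := fun x => by
    rw [← MulAut.mul_apply, htt, MulAut.one_apply]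
  have hinv : ∀ x : X, φ t x = x⁻¹ := fun x => congrFun (hff.coe_eq_inv_of_involutive h2) x
  have hcen : ∀ k : K, φ t * φ k = φ k * φ t := by
    intro k
    ext x
    rw [MulAut.mul_apply, MulAut.mul_apply, hinv, hinv, map_inv]
  -- `v` acts nontrivially
  have hv3 : v ^ 3 = 1 := by rw [← hv, pow_orderOf_eq_one]
  have hX1 : φ v ≠ 1 := by
    intro h
    apply hX
    rw [eq_bot_iff]
    intro x hx
    have h4 := hφ v ⟨x, hx⟩
    rw [h, MulAut.one_apply] at h4
    have h5 := hC x (eq_mul_inv_iff_mul_eq.1 h4)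
    have h6 : orderOf x ∣ 3 := by
      obtain ⟨i, hi⟩ := h5
      have hi : v ^ i = x := hi
      apply orderOf_dvd_of_pow_eq_one
      rw [← hi, ← zpow_natCast, ← zpow_mul, mul_comm, zpow_mul, zpow_natCast, hv3, one_zpow]
    have h7 : orderOf x ∣ Nat.card X := by
      have h8 := orderOf_dvd_natCard (⟨x, hx⟩ : X)
      rwa [← Subgroup.orderOf_coe] at h8
    rcases (Nat.dvd_prime Nat.prime_three).1 h6 with h8 | h8
    · exact orderOf_eq_one_iff.1 h8
    · rw [h8] at h7
      exact absurd h7 h3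
  have hov : orderOf (φ v) = 3 := orderOf_eq_prime (by rw [← map_pow, hv3, map_one]) hX1
  -- the subgroup of elements acting like a power of `v`
  let M0 : Subgroup K := (zpowers (φ v)).comap φ
  have hvM : v ∈ M0 := mem_zpowers (φ v)
  have hw : φ (t * v * t⁻¹) = φ v := by
    rw [map_mul, map_mul, hcen, map_inv, mul_inv_cancel_right]
  have hwM : t * v * t⁻¹ ∈ M0 := by
    show φ (t * v * t⁻¹) ∈ zpowers (φ v)
    rw [hw]; exact mem_zpowers _
  have h9 : ¬ 3 ^ 2 ∣ Nat.card M0 := fun h => not_sq hv hC (h.trans (card_subgroup_dvd_card M0))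
  obtain ⟨c, hc, -⟩ := conj_of_not_sq (x := (⟨v, hvM⟩ : M0)) (y := (⟨t * v * t⁻¹, hwM⟩ : M0)) Nat.prime_three h9
    (by rw [Subgroup.orderOf_mk, hv]) (by rw [Subgroup.orderOf_mk, order_conj, hv])
  obtain ⟨i, hi⟩ := hc
  have hi : v ^ i = (c : K) * (t * v * t⁻¹) * (c : K)⁻¹ := congrArg Subtype.val hi
  have hcM : φ (c : K) ∈ zpowers (φ v) := c.2
  obtain ⟨j, hj⟩ := hcM
  have hj : φ v ^ j = φ (c : K) := hj
  have h10 : φ v ^ i = φ v := by
    rw [← map_zpow, hi, map_mul, map_mul, hw, map_inv, ← hj, ((Commute.refl (φ v)).zpow_left j).eq, mul_inv_cancel_right]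
  have h11 : φ v ^ (i - 1) = 1 := by rw [zpow_sub_one, h10, mul_inv_cancel]
  have h12 : (3 : ℤ) ∣ i - 1 := by
    have h13 := orderOf_dvd_iff_zpow_eq_one.2 h11
    rwa [hov] at h13
  have h13 : v ^ i = v := by
    have h14 : v ^ (i - 1) = 1 := orderOf_dvd_iff_zpow_eq_one.1 (by rw [hv]; exact h12)
    rwa [zpow_sub_one, mul_inv_eq_one] at h14
  have h14 : ((c : K) * t) * v = v * ((c : K) * t) := by
    rw [h13] at hi
    have h15 : v * ((c : K) * t) = (c : K) * (t * v * t⁻¹) * (c : K)⁻¹ * ((c : K) * t) := by rw [← hi]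
    rw [h15]; group
  obtain ⟨k, hk⟩ := hC _ h14
  have hk : v ^ k = (c : K) * t := hk
  have h15 : φ v ^ (-j + k) = φ t := by
    rw [zpow_add, zpow_neg, hj, ← map_zpow, hk, map_mul, inv_mul_cancel_left]
  have h16 : φ t ^ 3 = 1 := by
    rw [← h15, ← zpow_natCast, ← zpow_mul, mul_comm, zpow_mul, zpow_natCast, ← map_pow, hv3, map_one, one_zpow]
  have h17 : φ t = 1 := by
    have h18 : φ t ^ 3 = φ t * φ t * φ t := by rw [pow_succ, pow_two]
    rw [h18, htt, one_mul] at h16
    exact h16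
  apply hX
  rw [eq_bot_iff]
  intro x hx
  have h18 := hφ t ⟨x, hx⟩
  rw [h17, MulAut.one_apply] at h18
  exact hfix x hx (eq_mul_inv_iff_mul_eq.1 h18).symm

end gen

/-- a self-centralizing element of order 3 and an involution without fixed points on the `q`-elements, `q ≥ 11` -/
theorem no_elt_of_inv (h3 : Three.{u}) {K : Type u} [Group K] [Finite K] {v t : K} (hv : orderOf v = 3)
    (hC : ∀ g : K, g * v = v * g → g ∈ zpowers v) (ht : t * t = 1) {q : ℕ} (hq : q.Prime) (hq11 : 11 ≤ q)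
    (hfix : ∀ x : K, orderOf x = q → t * x ≠ x * t) : ¬ q ∣ Nat.card K := by
  intro hd
  have hFq : Fact q.Prime := ⟨hq⟩
  have hT : Nat.card (zpowers v) = 3 := by rw [Nat.card_zpowers, hv]
  rcases h3 K (zpowers v) hT (centralizer_zpowers_eq hC) with ⟨N, hN, hnil, h36⟩ | ⟨N, hN, hsq, h60⟩ | h168
  · -- the Sylow `q`-subgroup of `N` is normal in `K`
    have hcN := N.card_mul_index
    have hidx : N.index = 3 ∨ N.index = 6 := h36
    have hqN : q ∣ Nat.card N := by
      rw [← hcN] at hd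
      rcases hq.dvd_mul.1 hd with h | h
      · exact h
      · exfalso
        rcases hidx with h1 | h1 <;> rw [h1] at h
        · have := Nat.le_of_dvd (by norm_num) h; omega
        · have := Nat.le_of_dvd (by norm_num) h; omega
    obtain ⟨P⟩ : Nonempty (Sylow q N) := inferInstance
    have hnil' : Group.IsNilpotent N := hnil
    have hPn : (P : Subgroup N).Normal := by
      have h4 : NormalizerCondition N := Group.normalizerCondition_of_isNilpotent
      exact Sylow.normal_of_normalizerCondition h4 P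
    have hPc : (P : Subgroup N).Characteristic := P.characteristic_of_normal hPn
    have hPK : ((P : Subgroup N).map N.subtype).Normal := ConjAct.normal_of_characteristic_of_normal
    have hPp : IsPGroup q ↥((P : Subgroup N).map N.subtype) := P.isPGroup'.map N.subtype
    obtain ⟨n, hn⟩ := IsPGroup.iff_card.1 hPp
    have hcard : Nat.card ((P : Subgroup N).map N.subtype) = Nat.card (P : Subgroup N) :=
      Subgroup.card_map_of_injective N.subtype_injective
    have hqP : q ∣ Nat.card (P : Subgroup N) := P.dvd_card_of_dvd_card hqN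
    refine false_of_inv hv hC ht (X := (P : Subgroup N).map N.subtype) ?_ ?_ ?_
    · intro h
      rw [← hcard, h, Subgroup.card_bot] at hqP
      exact hq.one_lt.ne' (Nat.dvd_one.1 hqP)
    · rw [hn]
      intro h
      have h5 := (Nat.prime_dvd_prime_iff_eq Nat.prime_three hq).1 (Nat.prime_three.dvd_of_dvd_pow h)
      omega
    · intro x hx htx
      by_contra hx1
      have h5 : orderOf x ∣ q ^ n := by
        have h6 := orderOf_dvd_natCard (⟨x, hx⟩ : ↥((P : Subgroup N).map N.subtype))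
        rwa [← Subgroup.orderOf_coe, hn] at h6
      obtain ⟨k, -, hk⟩ := (Nat.dvd_prime_pow hq).1 h5
      have hk0 : k ≠ 0 := by
        rintro rfl
        rw [pow_zero] at hk
        exact hx1 (orderOf_eq_one_iff.1 hk)
      have h7 : q ∣ orderOf x := by rw [hk]; exact dvd_pow_self q hk0
      exact hfix _ (orderOf_pow_orderOf_div (orderOf_pos x).ne' h7) ((show Commute t x from htx).pow_right _).eq
  · have hcN := N.card_mul_index
    have hidx : N.index = 60 := h60
    rw [← hcN, hidx] at hd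
    rcases hq.dvd_mul.1 hd with h | h
    · obtain ⟨n, hn⟩ := exists_prime_orderOf_dvd_card' q h
      have h1 := hsq n n.2
      have h2 : orderOf (n : K) ∣ 2 := orderOf_dvd_of_pow_eq_one h1
      rw [Subgroup.orderOf_coe, hn] at h2
      have := Nat.le_of_dvd (by norm_num) h2
      omega
    · have h1 : q ∣ 2 ^ 2 * 3 * 5 := h
      rcases hq.dvd_mul.1 h1 with h2 | h2
      · rcases hq.dvd_mul.1 h2 with h3 | h3
        · have := (Nat.prime_dvd_prime_iff_eq hq Nat.prime_two).1 (hq.dvd_of_dvd_pow h3); omega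
        · have := (Nat.prime_dvd_prime_iff_eq hq Nat.prime_three).1 h3; omega
      · have := (Nat.prime_dvd_prime_iff_eq hq Nat.prime_five).1 h2; omega
  · rw [h168] at hd
    have h1 : q ∣ 2 ^ 3 * 3 * 7 := hd
    rcases hq.dvd_mul.1 h1 with h2 | h2
    · rcases hq.dvd_mul.1 h2 with h3 | h3
      · have := (Nat.prime_dvd_prime_iff_eq hq Nat.prime_two).1 (hq.dvd_of_dvd_pow h3); omega
      · have := (Nat.prime_dvd_prime_iff_eq hq Nat.prime_three).1 h3; omega
    · have := (Nat.prime_dvd_prime_iff_eq hq (by norm_num : (7 : ℕ).Prime)).1 h2; omega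

/-- **`y` of order `r`, `v` of order 3 with `C(v) ∩ C(y) = ⟨v⟩⟨y⟩`, `t` an involution of `C(y)` commuting with no element of order
`q` of `C(y)`, `q ≥ 11`: no element of order `q` commutes with `y`.** -/
theorem no_comm_of_inv (h3 : Three.{u}) {G : Type u} [Group G] [Finite G] {y v t : G} {r : ℕ} (hr : r.Prime) (hr3 : 3 ≠ r)
    (hv : orderOf v = 3) (hy : orderOf y = r) (hs : Self v y) (ht : t * t = 1) (hty : t * y = y * t) {q : ℕ} (hq : q.Prime)
    (hq11 : 11 ≤ q) (hqr : q ≠ r) (hfix : ∀ x : G, orderOf x = q → x * y = y * x → t * x ≠ x * t) {x : G}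
    (hx : orderOf x = q) : x * y ≠ y * x := by
  intro hxy
  have hFq : Fact q.Prime := ⟨hq⟩
  obtain ⟨hv', hC⟩ := hs.quot Nat.prime_three hr hr3 hv hy
  have hyr : y ^ r = 1 := by rw [← hy, pow_orderOf_eq_one]
  have hmk2 : mk y hty * mk y hty = 1 := by
    have h1 : (t * t) * y = y * (t * t) := by rw [ht, one_mul, mul_one]
    have h2 : mk y hty * mk y hty = mk y h1 := rfl
    rw [h2]
    exact (mk_eq_one h1).2 ⟨0, by rw [zpow_zero, ht]⟩
  -- elements of order `q` of `C(y)/⟨y⟩` lift to elements of order `q` of `C(y)`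
  have hlift : ∀ g : XX y, orderOf g = q → ∃ (x : G) (hx : x * y = y * x), orderOf x = q ∧ g ∈ zpowers (mk y hx) ∧
      mk y hx ∈ zpowers g := by
    intro g hg
    obtain ⟨g, hgy, rfl⟩ := exists_mk g
    have hpow : ∀ n : ℕ, g ^ n * y = y * g ^ n := fun n => ((show Commute g y from hgy).pow_left n).eq
    have hmk : ∀ n : ℕ, mk y (hpow n) = mk y hgy ^ n := fun n => rfl
    have hgq : (mk y hgy) ^ q = 1 := by rw [← hg, pow_orderOf_eq_one]
    obtain ⟨i, hi⟩ := (mk_eq_one (hpow q)).1 (by rw [hmk, hgq])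
    have hndvd : ¬ q ∣ r := fun h => hqr ((Nat.prime_dvd_prime_iff_eq hq hr).1 h)
    have hmkr : orderOf (mk y (hpow r)) = q := by
      rw [hmk]
      have h1 : Nat.Coprime (orderOf (mk y hgy)) r := by rw [hg]; exact (Nat.Prime.coprime_iff_not_dvd hq).2 hndvd
      rw [Nat.Coprime.orderOf_pow h1, hg]
    refine ⟨g ^ r, hpow r, ?_, ?_, ?_⟩
    · refine orderOf_eq_prime ?_ ?_
      · rw [← pow_mul, mul_comm, pow_mul, ← hi, ← zpow_natCast, ← zpow_mul, mul_comm, zpow_mul, zpow_natCast, hyr, one_zpow]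
      · intro h
        have h1 : mk y (hpow r) = 1 := (mk_eq_one (hpow r)).2 ⟨0, by rw [zpow_zero, h]⟩
        rw [h1, orderOf_one] at hmkr
        exact hq.one_lt.ne hmkr
    · rw [hmk]
      exact mem_zpowers_pow hq hg hndvd
    · rw [hmk]
      exact npow_mem_zpowers _ _
  refine no_elt_of_inv h3 hv' hC hmk2 hq hq11 ?_ ?_
  · intro g hg hcomm
    obtain ⟨x', hx'y, hx', hgx, hxg⟩ := hlift g hg
    have h1 : mk y hty * mk y hx'y = mk y hx'y * mk y hty := by
      obtain ⟨i, hi⟩ := hxg
      have hi : g ^ i = mk y hx'y := hi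
      rw [← hi]
      exact ((show Commute (mk y hty) g from hcomm).zpow_right i).eq
    have h2 : (t * x') * y = y * (t * x') := by
      rw [mul_assoc, hx'y, ← mul_assoc, hty, mul_assoc]
    have h3' : (x' * t) * y = y * (x' * t) := by
      rw [mul_assoc, hty, ← mul_assoc, hx'y, mul_assoc]
    have h4 : mk y h2 = mk y h3' := h1
    obtain ⟨i, hi⟩ := (mk_eq_mk h2 h3').1 h4
    -- `x' * t = t * x' * y ^ i`, so `t⁻¹ x' t = x' y ^ i` and `y ^ (i q) = 1`
    have h5 : t⁻¹ * x' * t = x' * y ^ i := by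
      rw [mul_assoc, ← hi]; group
    have h6 : (x' * y ^ i) ^ q = 1 := by
      rw [← h5]
      have h7 : t⁻¹ * x' * t = t⁻¹ * x' * (t⁻¹)⁻¹ := by rw [inv_inv]
      rw [h7, conj_pow, ← hx', pow_orderOf_eq_one, mul_one, mul_inv_cancel]
    have h7 : Commute x' (y ^ i) := (show Commute x' y from hx'y).zpow_right i
    rw [h7.mul_pow, ← hx', pow_orderOf_eq_one, one_mul, hx'] at h6
    have h8 : y ^ i = 1 := by
      have h9 : (y ^ i) ^ r = 1 := by
        rw [← zpow_natCast, ← zpow_mul, mul_comm, zpow_mul, zpow_natCast, hyr, one_zpow]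
      have h10 : orderOf (y ^ i) ∣ Nat.gcd q r := Nat.dvd_gcd (orderOf_dvd_of_pow_eq_one h6) (orderOf_dvd_of_pow_eq_one h9)
      rw [(Nat.coprime_primes hq hr).2 hqr] at h10
      exact orderOf_eq_one_iff.1 (Nat.dvd_one.1 h10)
    rw [h8, mul_one] at hi
    exact hfix x' hx' hx'y hi
  · have h1 : orderOf (mk y hxy) = q := by
      refine orderOf_eq_prime ?_ ?_
      · have h1 : x ^ q * y = y * x ^ q := ((show Commute x y from hxy).pow_left q).eq
        have h2 : mk y hxy ^ q = mk y h1 := rfl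
        rw [h2]
        exact (mk_eq_one h1).2 ⟨0, by rw [zpow_zero, ← hx, pow_orderOf_eq_one]⟩
      · intro h1
        obtain ⟨i, hi⟩ := (mk_eq_one hxy).1 h1
        have h2 : x ^ r = 1 := by
          rw [← hi, ← zpow_natCast, ← zpow_mul, mul_comm, zpow_mul, zpow_natCast, hyr, one_zpow]
        have h3' := orderOf_dvd_of_pow_eq_one h2
        rw [hx] at h3'
        exact hqr ((Nat.prime_dvd_prime_iff_eq hq hr).1 h3')
    rw [← h1]
    exact orderOf_dvd_natCard _

end Cfsg.Agent.H31.B0R
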