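import Cfsg.Agent.H31.B0R.OrdM
import Cfsg.Agent.H31.TwoCyc.MOdd
import Cfsg.Agent.H256.B0R.RowOf
import Cfsg.Agent.H256.B0R.MFacts
import Cfsg.Agent.H494.B0R.Inst
import Cfsg.Agent.H494.B0R.OrdM
import Cfsg.Agent.H657.Frob.Main
import Cfsg.Agent.H932.BR.RowCongr
import Cfsg.Agent.H852.OI.Spor
import Cfsg.Agent.H685.BR.Defs

/-!
# The rows of the Monster, `p = 17, 19, 23, 29, 31` (helper31)

The pairs `(17, 29)`, `(29, 31)`, `(19, 41)`, `(19, 23)`.
-/

set_option autoImplicit false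
set_option maxRecDepth 100000

open Subgroup

namespace Cfsg.Agent.H31.B0R.M

open Cfsg Cfsg.Agent.H256.B0R Cfsg.Agent.H602.B0R Cfsg.Agent.H145.BR Cfsg.Agent.H31.TwoCyc

universe u

abbrev G := Cfsg.Agent.H241.Mon.Gam

theorem card' : Nat.card G = 2 ^ 46 * 3 ^ 20 * 5 ^ 9 * 7 ^ 6 * 11 ^ 2 * 13 ^ 3 * 17 * 19 * 23 * 29 * 31 * 41 * 47 * 59 * 71 := by
  rw [Cfsg.Agent.H241.Mon.card_G]; norm_num

/-! ### excluded orders -/

theorem n3 {r n : ℕ} (hr : r ∈ [17, 19, 23, 29, 31]) (h1 : r ∣ n) (h2 : 3 ∣ n) (h3 : ¬ n ∣ 3 * r) (g : G) : ¬ n ∣ orderOf g :=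
  fun h => h3 (h.trans (MSelf.three_dvd hr (h1.trans h) (h2.trans h)))

theorem n13 {r n : ℕ} (hr : r ∈ [19, 31]) (h1 : r ∣ n) (h2 : 13 ∣ n) (g : G) : ¬ n ∣ orderOf g := fun h => by
  obtain ⟨i, hi⟩ := exists_pow_order (h2.trans h)
  obtain ⟨j, hj⟩ := exists_pow_order (h1.trans h)
  exact m_thirteen hr hi hj ((Commute.refl g).pow_pow i j).eq

theorem n713 {n : ℕ} (h1 : 7 ∣ n) (h2 : 13 ∣ n) (g : G) : ¬ n ∣ orderOf g := fun h =>
  H494.B0R.OrdM.ex7_13 (h1.trans h) (h2.trans h)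

theorem n2541 {n : ℕ} (h1 : 25 ∣ n) (h2 : 41 ∣ n) (g : G) : ¬ n ∣ orderOf g := fun h =>
  H494.B0R.OrdM.ex25_41 (h1.trans h) (h2.trans h)

theorem n7 {q n : ℕ} (hq : q ∈ [23, 31, 41, 47, 59]) (h1 : 7 ∣ n) (h2 : q ∣ n) (g : G) : ¬ n ∣ orderOf g := fun h =>
  MOdd.ex7 hq (h1.trans h) (h2.trans h)

theorem n11 {q n : ℕ} (hq : q ∈ [17, 19, 29, 31, 41, 47, 59, 71]) (h1 : 11 ∣ n) (h2 : q ∣ n) (g : G) : ¬ n ∣ orderOf g :=
  fun h => MOdd.ex11 hq (h1.trans h) (h2.trans h)

theorem n31 {q n : ℕ} (hq : q ∈ [29, 41, 59, 71]) (h1 : 31 ∣ n) (h2 : q ∣ n) (g : G) : ¬ n ∣ orderOf g :=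
  fun h => MOdd.ex31 hq (h1.trans h) (h2.trans h)

theorem nS {r q n : ℕ} (hr : r ∈ [17, 19, 23, 29, 31]) (hq : q ∈ [17, 23, 29, 41, 47, 59, 71]) (hqr : q ≠ r)
    (h1 : r ∣ n) (h2 : q ∣ n) (g : G) : ¬ n ∣ orderOf g :=
  fun h => MOdd.exS hr hq hqr (h1.trans h) (h2.trans h)

theorem n169 (g : G) : ¬ 169 ∣ orderOf g := fun h => by
  obtain ⟨i, hi⟩ := exists_pow_order h
  have h1 := MThirteen.thirteen (a := 2) (by rw [hi]; norm_num : orderOf (g ^ i) = 13 ^ 2)
  norm_num at h1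

theorem nadS {r q : ℕ} (hr : r ∈ [17, 19, 23, 29, 31]) (hq : q ∈ [17, 23, 29, 41, 47, 59, 71]) (hqr : q ≠ r) : NAd G r q :=
  fun _ _ hx hy h => MSelf.not_comm hr hq hqr hy hx h.symm

/-! ### the pairs -/

theorem no1729 : ∀ b ∈ ([7 * 31, 13 * 19, 25 * 41, 31 * 71, 7 * 9 * 13, 7 * 9 * 19, 9 * 13 * 31, 9 * 19 * 31, 11 * 25 * 31,
    11 * 25 * 71, 11 * 31 * 41, 11 * 41 * 71] : List ℕ), ∀ g : G, ¬ b ∣ orderOf g := by
  simp only [List.forall_mem_cons, List.not_mem_nil, false_imp_iff, implies_true, and_true]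
  exact ⟨n7 (q := 31) (by simp) (by norm_num) (by norm_num), n13 (r := 19) (by simp) (by norm_num) (by norm_num),
    n2541 (by norm_num) (by norm_num), n31 (q := 71) (by simp) (by norm_num) (by norm_num), n713 (by norm_num) (by norm_num),
    n3 (r := 19) (by simp) (by norm_num) (by norm_num) (by norm_num), n13 (r := 31) (by simp) (by norm_num) (by norm_num),
    n3 (r := 31) (by simp) (by norm_num) (by norm_num) (by norm_num), n11 (q := 31) (by simp) (by norm_num) (by norm_num),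
    n11 (q := 71) (by simp) (by norm_num) (by norm_num), n11 (q := 31) (by simp) (by norm_num) (by norm_num),
    n11 (q := 71) (by simp) (by norm_num) (by norm_num)⟩

theorem no2931 : ∀ b ∈ ([13 * 19, 25 * 41, 7 * 9 * 13, 7 * 9 * 19, 11 * 25 * 71, 11 * 41 * 71] : List ℕ), ∀ g : G,
    ¬ b ∣ orderOf g := by
  simp only [List.forall_mem_cons, List.not_mem_nil, false_imp_iff, implies_true, and_true]
  exact ⟨n13 (r := 19) (by simp) (by norm_num) (by norm_num), n2541 (by norm_num) (by norm_num),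
    n713 (by norm_num) (by norm_num), n3 (r := 19) (by simp) (by norm_num) (by norm_num) (by norm_num),
    n11 (q := 71) (by simp) (by norm_num) (by norm_num), n11 (q := 71) (by simp) (by norm_num) (by norm_num)⟩

theorem no1923 : ∀ b ∈ ([169, 11 * 71, 7 * 9 * 13, 7 * 9 * 31, 7 * 13 * 31, 9 * 13 * 31, 11 * 25 * 31, 11 * 25 * 41,
    11 * 31 * 41, 25 * 31 * 41, 25 * 31 * 71, 25 * 41 * 71, 29 * 49 * 71, 31 * 41 * 71] : List ℕ), ∀ g : G,
    ¬ b ∣ orderOf g := by
  simp only [List.forall_mem_cons, List.not_mem_nil, false_imp_iff, implies_true, and_true]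
  exact ⟨n169, n11 (q := 71) (by simp) (by norm_num) (by norm_num), n713 (by norm_num) (by norm_num),
    n7 (q := 31) (by simp) (by norm_num) (by norm_num), n713 (by norm_num) (by norm_num),
    n13 (r := 31) (by simp) (by norm_num) (by norm_num), n11 (q := 31) (by simp) (by norm_num) (by norm_num),
    n11 (q := 41) (by simp) (by norm_num) (by norm_num), n11 (q := 31) (by simp) (by norm_num) (by norm_num),
    n31 (q := 41) (by simp) (by norm_num) (by norm_num), n31 (q := 71) (by simp) (by norm_num) (by norm_num),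
    n2541 (by norm_num) (by norm_num), nS (r := 29) (q := 71) (by simp) (by simp) (by norm_num) (by norm_num) (by norm_num),
    n31 (q := 41) (by simp) (by norm_num) (by norm_num)⟩

theorem pd1729 : PD G 17 29 where
  hp := by norm_num
  hq := by norm_num
  hpq := by norm_num
  hp2 := by norm_num
  hq2 := by norm_num
  cp := by rw [card']; norm_num
  cp2 := by rw [card']; norm_num
  cq := by rw [card']; norm_num
  cq2 := by rw [card']; norm_num
  ep := fun P hP => e_auto (by norm_num) (by decide +kernel) hP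
  eq := fun P hP => e_dvd (d := 7) (by norm_num) (by decide +kernel) hP (Mon.e29 P hP)
  no := nadS (by simp) (by simp) (by norm_num)
  gen := H494.B0R.M_17_29 card' fun g d hd => no1729 d hd g

theorem pd2931 : PD G 29 31 where
  hp := by norm_num
  hq := by norm_num
  hpq := by norm_num
  hp2 := by norm_num
  hq2 := by norm_num
  cp := by rw [card']; norm_num
  cp2 := by rw [card']; norm_num
  cq := by rw [card']; norm_num
  cq2 := by rw [card']; norm_num
  ep := fun P hP => e_auto (by norm_num) (by decide +kernel) hP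
  eq := fun P hP => e_dvd (d := 3) (by norm_num) (by decide +kernel) hP (Mon.e31 P hP)
  no := (nadS (by simp) (by simp) (by norm_num)).symm
  gen := H494.B0R.M_29_31 card' fun g d hd => no2931 d hd g

theorem pd1923 : PD G 19 23 where
  hp := by norm_num
  hq := by norm_num
  hpq := by norm_num
  hp2 := by norm_num
  hq2 := by norm_num
  cp := by rw [card']; norm_num
  cp2 := by rw [card']; norm_num
  cq := by rw [card']; norm_num
  cq2 := by rw [card']; norm_num
  ep := fun P hP => e_dvd (d := 2) (by norm_num) (by decide +kernel) hP (Mon.e19 P hP)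
  eq := fun P hP => e_auto (by norm_num) (by decide +kernel) hP
  no := nadS (by simp) (by simp) (by norm_num)
  gen := H494.B0R.M_19_23 card' fun g d hd => no1923 d hd g

/-- the Frobenius lemma -/
theorem frobAll : FrobAll G := fun _ _ _ hp2 h1 h2 hM => H657.Frob.frob hM hp2 h1 h2

theorem isoM : Spor.IsoM G := by
  obtain ⟨e⟩ := Cfsg.Agent.MonsterP.Equiv.equiv
  exact ⟨e.symm⟩

theorem hout : ∀ a : MulAut G, ∃ c : ℕ, a ^ (2 ^ c) ∈ (MulAut.conj (G := G)).range := by
  intro a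
  obtain ⟨t, ht⟩ := Cfsg.Agent.H852.OI.inner_m isoM a
  exact ⟨0, t, by rw [pow_zero, pow_one, ht]⟩

/-- **The rows of the Monster.** -/
theorem rowInt {p : ℕ} (hp : p ∈ [17, 19, 23, 29, 31]) : RowInt p G := by
  simp only [List.mem_cons, List.not_mem_nil, or_false] at hp
  rcases hp with rfl | rfl | rfl | rfl | rfl
  · exact (pd1729.rowInt frobAll hout).1
  · exact (pd1923.rowInt frobAll hout).1
  · exact (pd1923.rowInt frobAll hout).2
  · exact (pd1729.rowInt frobAll hout).2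
  · exact (pd2931.rowInt frobAll hout).2

/-- **The rows of the Monster.** -/
theorem rowInt_m {S : Type u} [Group S] (h : Spor.IsoM S) {p : ℕ} (hp : p ∈ [17, 19, 23, 29, 31]) : RowInt p S := by
  obtain ⟨e⟩ := h
  obtain ⟨f⟩ := isoM
  exact H932.BR.RowInt.congr (e.trans f.symm) (rowInt hp)

/-- **The rows of the Monster.** -/
theorem rowZ_m {S : Type u} [Group S] (h : Spor.IsoM S) {p : ℕ} (hp : p ∈ [17, 19, 23, 29, 31]) : RowZ p S :=
  (rowInt_m h hp).rowZ

theorem row57_m {S : Type u} [Group S] (h : Spor.IsoM S) {p : ℕ} [Fact p.Prime] (hp : p ∈ [17, 19, 23, 29, 31]) :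
    H685.BR.Row57 p S :=
  H685.BR.row57_of_rowQ (rowZ_m h hp).rowQ

end Cfsg.Agent.H31.B0R.M
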