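import Cfsg.Agent.H31.B0R.InvThree
import Cfsg.Agent.H139.LD.Struct13
import Cfsg.Agent.H241.NHMonE

/-!
# The Monster: no elements of order 13 · 19, 13 · 31 (helper31)
-/

set_option autoImplicit false
set_option maxRecDepth 100000

namespace Cfsg.Agent.H31.B0R

open Subgroup Cfsg Cfsg.Agent.H630.NH Cfsg.Agent.H241.NH Cfsg.Agent.H241.Mon Cfsg.Agent.LThreeMB Cfsg.Agent.H31.TwoCyc.MSelf

universe u

/-- in the Baby Monster no element of order 13 commutes with an element of order 19, 31 -/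
theorem b_thirteen {r : ℕ} (hr : r ∈ [19, 31]) {x y : Spor.BabyMonster} (hx : orderOf x = 13) (hy : orderOf y = r) :
    x * y ≠ y * x := by
  intro h
  have h1 := (Cfsg.Agent.H139.LD.struct13_model hx).1
  have h2 : orderOf y ∣ Nat.card (centralizer ({x} : Set Spor.BabyMonster)) := by
    rw [← Subgroup.orderOf_mk y (mem_centralizer_singleton_iff.2 h.symm)]
    exact orderOf_dvd_natCard _
  rw [h1, hy] at h2
  simp only [List.mem_cons, List.not_mem_nil, or_false] at hr
  rcases hr with rfl | rfl <;> norm_num at h2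

theorem prime_r {r : ℕ} (hr : r ∈ [19, 31]) :
    r.Prime ∧ r ≠ 2 ∧ r ≠ 13 ∧ 3 ≠ r ∧ ¬ r ∣ 2 ^ 25 * 4157776806543360000 ∧
      r ∣ 2 * 4154781481226426191177580544000000 ∧ ¬ r ^ 2 ∣ 808017424794512875886459904961710757005754368000000000 := by
  simp only [List.mem_cons, List.not_mem_nil, or_false] at hr
  rcases hr with rfl | rfl <;> norm_num

/-- no commuting involution, element of order 13 and element of order 19, 31 -/
theorem no_triple {r : ℕ} (hr : r ∈ [19, 31]) {x y t : Gam} (hx : orderOf x = 13) (hy : orderOf y = r) (ht : orderOf t = 2)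
    (hxy : x * y = y * x) (hxt : x * t = t * x) (hyt : y * t = t * y) : False := by
  obtain ⟨t0, ht0, hcl, hct, q, hqs, hqk⟩ := exists_cov
  obtain ⟨hrp, hr2, -, -, hrz, -, -⟩ := prime_r hr
  rcases hcl t ht with ⟨g, hg⟩ | ⟨g, hg⟩
  · refine H393.Iso.not_comm_of_card (t := t) ?_ hy hyt
    rw [← hg, card_conj', card_cz]; exact hrz
  · have key : ∀ a : Gam, a * t = t * a → (g⁻¹ * a * g) ∈ centralizer ({t0} : Set Gam) := by
      intro a ha
      rw [mem_centralizer_singleton_iff]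
      calc g⁻¹ * a * g * t0 = g⁻¹ * (a * (g * t0 * g⁻¹)) * g := by group
        _ = g⁻¹ * (g * t0 * g⁻¹ * a) * g := by rw [hg, ha]
        _ = t0 * (g⁻¹ * a * g) := by group
    have hord : ∀ a : Gam, orderOf (g⁻¹ * a * g) = orderOf a := by
      intro a
      have h2 := order_conj g⁻¹ a
      rwa [inv_inv] at h2
    have ho : ∀ (a : centralizer ({t0} : Set Gam)) (p : ℕ), p.Prime → p ≠ 2 → orderOf a = p → orderOf (q a) = p := by
      intro a p hp hp2 ha
      have hFp : Fact p.Prime := ⟨hp⟩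
      refine orderOf_eq_prime (by rw [← map_pow, ← ha, pow_orderOf_eq_one, map_one]) fun h => ?_
      rcases hqk _ h with h1 | h1
      · rw [h1, orderOf_one] at ha
        exact hp.one_lt.ne ha
      · rw [← Subgroup.orderOf_coe, h1, ht0] at ha
        exact hp2 ha.symm
    set x1 : centralizer ({t0} : Set Gam) := ⟨g⁻¹ * x * g, key x hxt⟩ with hx1
    set y1 : centralizer ({t0} : Set Gam) := ⟨g⁻¹ * y * g, key y hyt⟩ with hy1
    have hcom : x1 * y1 = y1 * x1 := by
      apply Subtype.ext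
      show g⁻¹ * x * g * (g⁻¹ * y * g) = g⁻¹ * y * g * (g⁻¹ * x * g)
      calc g⁻¹ * x * g * (g⁻¹ * y * g) = g⁻¹ * (x * y) * g := by group
        _ = g⁻¹ * (y * x) * g := by rw [hxy]
        _ = _ := by group
    refine b_thirteen hr (ho x1 13 (by norm_num) (by norm_num) ?_) (ho y1 r hrp hr2 ?_) ?_
    · rw [hx1, Subgroup.orderOf_mk, hord, hx]
    · rw [hy1, Subgroup.orderOf_mk, hord, hy]
    · rw [← map_mul, hcom, map_mul]

/-- an element of order 19, 31 commutes with an involution -/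
theorem exists_inv {r : ℕ} (hr : r ∈ [19, 31]) {y : Gam} (hy : orderOf y = r) :
    ∃ t : Gam, orderOf t = 2 ∧ t * y = y * t := by
  obtain ⟨t0, ht0, -, hct, -⟩ := exists_cov
  obtain ⟨hrp, hr2, -, -, hrz, hrt, hrq⟩ := prime_r hr
  have hFr : Fact r.Prime := ⟨hrp⟩
  obtain ⟨y0, hy0⟩ := exists_prime_orderOf_dvd_card' (G := centralizer ({t0} : Set Gam)) r (by rw [hct]; exact hrt)
  have hy0' : orderOf (y0 : Gam) = r := by rw [Subgroup.orderOf_coe, hy0]
  obtain ⟨g, hg, -⟩ := conj_of_not_sq hrp (by rw [card_G]; exact hrq) hy0' hy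
  have h1 : t0 * (g * y * g⁻¹) = g * y * g⁻¹ * t0 := by
    obtain ⟨i, hi⟩ := hg
    have hi : (y0 : Gam) ^ i = g * y * g⁻¹ := hi
    rw [← hi]
    exact ((show Commute t0 (y0 : Gam) from (mem_centralizer_singleton_iff.1 y0.2).symm).zpow_right i).eq
  refine ⟨g⁻¹ * t0 * g, ?_, ?_⟩
  · have h2 := order_conj g⁻¹ t0
    rw [inv_inv] at h2
    rw [h2, ht0]
  · calc g⁻¹ * t0 * g * y = g⁻¹ * (t0 * (g * y * g⁻¹)) * g := by group
      _ = g⁻¹ * (g * y * g⁻¹ * t0) * g := by rw [h1]
      _ = _ := by group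

/-- **in the Monster no element of order 13 commutes with an element of order 19, 31** -/
theorem m_thirteen {r : ℕ} (hr : r ∈ [19, 31]) {x y : Gam} (hx : orderOf x = 13) (hy : orderOf y = r) : x * y ≠ y * x := by
  obtain ⟨hrp, hr2, hr13, hr3, -⟩ := prime_r hr
  obtain ⟨v, hv, hs⟩ := self_all (r := r) (by
    simp only [List.mem_cons, List.not_mem_nil, or_false] at hr ⊢
    rcases hr with rfl | rfl <;> simp) hy
  obtain ⟨t, ht, hty⟩ := exists_inv hr hy
  refine no_comm_of_inv h3 hrp hr3 hv hy hs (t := t) (by rw [← pow_two, ← ht, pow_orderOf_eq_one]) hty (q := 13)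
    (by norm_num) (by norm_num) hr13.symm ?_ hx
  intro x hx hxy htx
  exact no_triple hr hx hy ht hxy htx.symm hty.symm

end Cfsg.Agent.H31.B0R
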